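import Groth.Agent.S7382
import Mathlib

/-!
Integral surjective morphisms with local lifts are dominated by finite ones of finite presentation.
-/

universe u

open AlgebraicGeometry CategoryTheory Limits

namespace FinDom4

theorem exists_finite_of_integral {U S : Scheme.{u}} (g : U ⟶ S) [LocallyOfFinitePresentation g]
    [CompactSpace S] [QuasiSeparatedSpace S] {T : Scheme.{u}} (π : T ⟶ S) [IsIntegralHom π]
    [Surjective π]
    (hloc : ∀ t : T, ∃ (V : T.Opens) (r : (V : Scheme.{u}) ⟶ U), t ∈ V ∧ r ≫ g = V.ι ≫ π) :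
    ∃ (S' : Scheme.{u}) (p : S' ⟶ S), Surjective p ∧ IsFinite p ∧ LocallyOfFinitePresentation p ∧
      ∀ y : S', ∃ (V : S'.Opens) (h : (V : Scheme.{u}) ⟶ U), y ∈ V ∧ h ≫ g = V.ι ≫ p := by
  classical
  obtain ⟨I, iI, iD, iN, D, c, hc, hD, ⟨e⟩⟩ := Groth.Agent.S7382.result π
  let D' : Iᵒᵖ ⥤ Scheme.{u} := D ⋙ Over.forget S
  let c' : Cone D' := (Over.forget S).mapCone c
  let p : ∀ i, D'.obj i ⟶ S := fun i => (D.obj i).hom
  haveI : IsConnected Iᵒᵖ := IsCofiltered.isConnected Iᵒᵖ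
  have hc' : IsLimit c' := isLimitOfPreserves (Over.forget S) hc
  let tD : D' ⟶ (Functor.const Iᵒᵖ).obj S :=
    { app := p
      naturality := fun i j a => by
        change (D.map a).left ≫ p j = _ ≫ 𝟙 S
        rw [Over.w, Category.comp_id] }
  haveI hfin : ∀ i, IsFinite (p i) := fun i => (hD i).1
  haveI haff : ∀ {i j : Iᵒᵖ} (a : i ⟶ j), IsAffineHom (D'.map a) := fun {i j} a => by
    haveI : IsAffineHom (D'.map a ≫ p j) := by
      rw [show D'.map a ≫ p j = p i from Over.w (D.map a)]; infer_instance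
    exact IsAffineHom.of_comp (D'.map a) (p j)
  haveI : ∀ i, CompactSpace (D'.obj i) := fun i =>
    QuasiCompact.compactSpace_of_compactSpace (p i)
  haveI : ∀ i, QuasiSeparatedSpace (D'.obj i) := fun i =>
    quasiSeparatedSpace_of_quasiSeparated (p i)
  let eT : c'.pt ≅ T := (Over.forget S).mapIso e
  have heT : ∀ i, c'.π.app i ≫ p i = eT.hom ≫ π := fun i =>
    (Over.w (c.π.app i)).trans (Over.w e.hom).symm
  haveI : CompactSpace c'.pt := by
    haveI : CompactSpace T := QuasiCompact.compactSpace_of_compactSpace π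
    exact (Scheme.homeoOfIso eT.symm).compactSpace
  -- local sections on the limit
  have hlocc : ∀ z : c'.pt, ∃ (V : c'.pt.Opens), z ∈ V ∧ IsCompact (V : Set c'.pt) ∧
      ∃ r : (V : Scheme.{u}) ⟶ U, ∀ i, r ≫ g = V.ι ≫ c'.π.app i ≫ p i := by
    intro z
    obtain ⟨V, r, hz, hr⟩ := hloc (eT.hom z)
    obtain ⟨W, hW, hzW, hWV⟩ := exists_isAffineOpen_mem_and_subset (X := c'.pt) (x := z)
      (U := eT.hom ⁻¹ᵁ V) hz
    refine ⟨W, hzW, hW.isCompact, c'.pt.homOfLE hWV ≫ (eT.hom ∣_ V) ≫ r, fun i => ?_⟩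
    rw [Category.assoc, Category.assoc, hr, morphismRestrict_ι_assoc, Scheme.homOfLE_ι_assoc]
    rw [heT i]
  choose V hzV hVc r hr using hlocc
  obtain ⟨t, ht⟩ := (isCompact_univ (X := c'.pt)).elim_finite_subcover (fun z => (V z : Set c'.pt))
    (fun z => (V z).2) (fun z _ => Set.mem_iUnion.2 ⟨z, hzV z⟩)
  have hdesc : ∀ z, ∃ (j : Iᵒᵖ) (W : (D'.obj j).Opens), c'.π.app j ⁻¹ᵁ W = V z ∧
      ∃ h : (W : Scheme.{u}) ⟶ U, h ≫ g = W.ι ≫ p j := by
    intro z
    obtain ⟨i, W0, hW0c, hW0⟩ := exists_preimage_eq D' c' hc' (V z) (hVc z)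
    haveI (j : Over i) : CompactSpace ((opensDiagram D' i W0).obj j) :=
      isCompact_iff_compactSpace.mp (QuasiCompact.isCompact_preimage _ W0.2 hW0c)
    haveI (j : Over i) : QuasiSeparatedSpace ((opensDiagram D' i W0).obj j) :=
      (isQuasiSeparated_iff_quasiSeparatedSpace _ (D'.map _ ⁻¹ᵁ _).2).mp (.of_quasiSeparatedSpace _)
    let tW : opensDiagram D' i W0 ⟶ (Functor.const (Over i)).obj S :=
      opensDiagramι D' i W0 ≫ Functor.whiskerLeft (Over.forget i) tD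
    obtain ⟨j, h, -, hh⟩ := Scheme.exists_π_app_comp_eq_of_locallyOfFinitePresentation
      (opensDiagram D' i W0) tW g (opensCone D' c' i W0) (isLimitOpensCone D' c' hc' i W0)
      (c'.pt.homOfLE hW0.le ≫ r z) (by
        ext k
        change (c'.π.app k.left).resLE _ _ _ ≫ (D'.map k.hom ⁻¹ᵁ W0).ι ≫ p k.left =
          (c'.pt.homOfLE hW0.le ≫ r z) ≫ g
        rw [Scheme.Hom.resLE_comp_ι_assoc, Category.assoc, hr z k.left, Scheme.homOfLE_ι_assoc])
    exact ⟨j.left, D'.map j.hom ⁻¹ᵁ W0,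
      by rw [← Scheme.Hom.comp_preimage, c'.w, hW0], h, hh⟩
  choose j W hWV h hh using hdesc
  obtain ⟨l, fl⟩ := IsCofiltered.inf_objs_exists (t.image j)
  let fl' : ∀ z ∈ t, l ⟶ j z := fun z hz => (fl (Finset.mem_image_of_mem j hz)).some
  let Wl : (D'.obj l).Opens := ⨆ z : t, D'.map (fl' z.1 z.2) ⁻¹ᵁ W z.1
  obtain ⟨m, fm, hm⟩ := exists_map_eq_top D' c' hc' Wl (by
    refine TopologicalSpace.Opens.ext (Set.eq_univ_of_forall fun y => ?_)
    obtain ⟨z, hzt, hy⟩ := Set.mem_iUnion₂.1 (ht (Set.mem_univ y))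
    refine TopologicalSpace.Opens.mem_iSup.2 ⟨⟨z, hzt⟩, ?_⟩
    rw [← hWV z] at hy
    change D'.map (fl' z hzt) (c'.π.app l y) ∈ W z
    rw [← Scheme.Hom.comp_apply, c'.w]
    exact hy)
  refine ⟨D'.obj m, p m, ?_, (hD m).1, (hD m).2, fun y => ?_⟩
  · haveI : Surjective ((eT.inv ≫ c'.π.app m) ≫ p m) := by
      rw [Category.assoc, heT m, Iso.inv_hom_id_assoc]; infer_instance
    exact Surjective.of_comp (eT.inv ≫ c'.π.app m) (p m)
  · have hy : y ∈ D'.map fm ⁻¹ᵁ Wl := hm ▸ trivial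
    obtain ⟨⟨z, hzt⟩, hy'⟩ := TopologicalSpace.Opens.mem_iSup.1 hy
    refine ⟨(D'.map fm ≫ D'.map (fl' z hzt)) ⁻¹ᵁ W z,
      ((D'.map fm ≫ D'.map (fl' z hzt)) ∣_ W z) ≫ h z, hy', ?_⟩
    rw [Category.assoc, hh z, morphismRestrict_ι_assoc, Category.assoc]
    congr 1
    rw [show D'.map (fl' z hzt) ≫ p (j z) = p l from Over.w (D.map (fl' z hzt))]
    exact Over.w (D.map fm)

end FinDom4
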